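import Mathlib

/-!
# Exactness of `- ⊗ (X → Y → Z)` can be tested on finitely presented modules
-/

set_option autoImplicit false
universe u v
open TensorProduct LinearMap

namespace Groth.Agent.Lib.Helper2.KFlatFP

variable {R : Type u} [CommRing R] {X Y Z : Type v} [AddCommGroup X] [AddCommGroup Y]
  [AddCommGroup Z] [Module R X] [Module R Y] [Module R Z] (f : X →ₗ[R] Y) (g : Y →ₗ[R] Z)

/-- "kernel ⊆ range" for `M ⊗ X → M ⊗ Y → M ⊗ Z`. -/
def MidExactAt (M : Type*) [AddCommGroup M] [Module R M] : Prop :=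
  ∀ y : M ⊗[R] Y, g.lTensor M y = 0 → ∃ x : M ⊗[R] X, f.lTensor M x = y

variable {f g}

/-- Stage (a): finitely generated modules. -/
lemma midExactAt_of_finite
    (hP : ∀ (P : Type u) [AddCommGroup P] [Module R P], Module.FinitePresentation R P →
      MidExactAt f g P)
    (M : Type*) [AddCommGroup M] [Module R M] [Module.Finite R M] : MidExactAt f g M := by
  intro y hy
  obtain ⟨s, π, hπ⟩ := Module.Finite.exists_fin' R M
  obtain ⟨y₁, rfl⟩ := rTensor_surjective Y hπ y
  -- `g y₁` dies in `M ⊗ Z`, hence comes from `ker π ⊗ Z`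
  have h1 : π.rTensor Z (g.lTensor (Fin s → R) y₁) = 0 := by
    rw [← hy, ← LinearMap.comp_apply, ← LinearMap.comp_apply, LinearMap.rTensor_comp_lTensor,
      LinearMap.lTensor_comp_rTensor]
  have hex : Function.Exact ((LinearMap.ker π).subtype.rTensor Z) (π.rTensor Z) :=
    rTensor_exact Z (LinearMap.exact_subtype_ker_map π) hπ
  obtain ⟨u, hu⟩ := (hex _).1 h1
  obtain ⟨N', hN'fg, u', rfl⟩ := Submodule.exists_fg_le_eq_rTensor_subtype u
  -- the submodule of `R^s`
  let N'' : Submodule R (Fin s → R) := N'.map (LinearMap.ker π).subtype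
  have hN''fg : N''.FG := hN'fg.map _
  have hN''le : N'' ≤ LinearMap.ker π := by
    rintro _ ⟨a, _, rfl⟩
    exact a.2
  have hfp : Module.FinitePresentation R ((Fin s → R) ⧸ N'') :=
    Module.finitePresentation_of_surjective N''.mkQ N''.mkQ_surjective
      (by rw [Submodule.ker_mkQ]; exact hN''fg)
  -- the image of `y₁` in `P ⊗ Y`
  have h2 : g.lTensor ((Fin s → R) ⧸ N'') (N''.mkQ.rTensor Y y₁) = 0 := by
    rw [← LinearMap.comp_apply, LinearMap.lTensor_comp_rTensor, ← LinearMap.rTensor_comp_lTensor,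
      LinearMap.comp_apply, ← hu, ← LinearMap.comp_apply, ← LinearMap.comp_apply,
      ← LinearMap.rTensor_comp, ← LinearMap.rTensor_comp]
    have : (N''.mkQ ∘ₗ (LinearMap.ker π).subtype) ∘ₗ N'.subtype = 0 := by
      ext a
      simp only [LinearMap.comp_apply, Submodule.subtype_apply, Submodule.mkQ_apply,
        LinearMap.zero_apply, Submodule.Quotient.mk_eq_zero]
      exact ⟨a.1, a.2, rfl⟩
    rw [this, LinearMap.rTensor_zero, LinearMap.zero_apply]
  obtain ⟨xP, hxP⟩ := hP _ hfp _ h2
  refine ⟨(N''.liftQ π hN''le).rTensor X xP, ?_⟩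
  rw [← LinearMap.comp_apply, LinearMap.lTensor_comp_rTensor, ← LinearMap.rTensor_comp_lTensor,
    LinearMap.comp_apply, hxP, ← LinearMap.comp_apply, ← LinearMap.rTensor_comp,
    Submodule.liftQ_mkQ]

/-- Stage (b): all modules. -/
theorem midExactAt_of_finitePresentation
    (hP : ∀ (P : Type u) [AddCommGroup P] [Module R P], Module.FinitePresentation R P →
      MidExactAt f g P)
    (M : Type u) [AddCommGroup M] [Module R M] : MidExactAt f g M := by
  intro y hy
  obtain ⟨M', hM'fg, y', rfl⟩ := Submodule.exists_fg_le_eq_rTensor_subtype y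
  have h1 : M'.subtype.rTensor Z (g.lTensor M' y') = M'.subtype.rTensor Z 0 := by
    rw [map_zero, ← hy, ← LinearMap.comp_apply, ← LinearMap.comp_apply,
      LinearMap.rTensor_comp_lTensor, LinearMap.lTensor_comp_rTensor]
  obtain ⟨M'', hM''fg, hle, h2⟩ := hM'fg.exists_rTensor_fg_inclusion_eq h1
  rw [map_zero] at h2
  have : Module.Finite R M'' := Module.Finite.iff_fg.2 hM''fg
  have h3 : g.lTensor M'' ((Submodule.inclusion hle).rTensor Y y') = 0 := by
    rw [← h2, ← LinearMap.comp_apply, ← LinearMap.comp_apply,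
      LinearMap.rTensor_comp_lTensor, LinearMap.lTensor_comp_rTensor]
  obtain ⟨x'', hx''⟩ := midExactAt_of_finite hP M'' _ h3
  refine ⟨M''.subtype.rTensor X x'', ?_⟩
  rw [← LinearMap.comp_apply, LinearMap.lTensor_comp_rTensor, ← LinearMap.rTensor_comp_lTensor,
    LinearMap.comp_apply, hx'', ← LinearMap.comp_apply, ← LinearMap.rTensor_comp]
  rfl

end Groth.Agent.Lib.Helper2.KFlatFP
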