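import Mathlib
import Groth.Prelude.Def_DRing2

/-!
# Canonical truncations of complexes of modules as an exhaustive tower of subcomplexes
-/

set_option autoImplicit false
universe u
open CategoryTheory CategoryTheory.Limits HomologicalComplex

namespace Groth.Agent.Lib.Helper2.KFlatFP

variable {R : Type u} [CommRing R] (L : DRing.Cx R)

/-- A family of submodules of the terms of `L` stable under the differential. -/
structure SubFam where
  /-- the submodules -/
  S : ∀ q : ℤ, Submodule R (L.X q)
  hS : ∀ (q q' : ℤ) (x : L.X q), x ∈ S q → (L.d q q').hom x ∈ S q'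

variable {L}

/-- The subcomplex attached to a stable family of submodules. -/
noncomputable def subCx (F : SubFam L) : DRing.Cx R where
  X q := ModuleCat.of R (F.S q)
  d q q' := ModuleCat.ofHom ((L.d q q').hom.restrict (F.hS q q'))
  shape q q' h := by
    ext x
    change (L.d q q').hom x.1 = 0
    rw [L.shape q q' h]
    rfl
  d_comp_d' q q' q'' _ _ := by
    ext x
    change (L.d q' q'').hom ((L.d q q').hom x.1) = 0
    exact congr($(L.d_comp_d q q' q'') x.1)

/-- The inclusion of a subcomplex. -/
noncomputable def subι (F : SubFam L) : subCx F ⟶ L where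
  f q := ModuleCat.ofHom (F.S q).subtype
  comm' q q' _ := by
    ext x
    rfl

/-- The inclusion between subcomplexes. -/
noncomputable def subMap (F F' : SubFam L) (h : ∀ q, F.S q ≤ F'.S q) : subCx F ⟶ subCx F' where
  f q := ModuleCat.ofHom (Submodule.inclusion (h q))
  comm' q q' _ := by
    ext x
    rfl

lemma subMap_ι (F F' : SubFam L) (h : ∀ q, F.S q ≤ F'.S q) : subMap F F' h ≫ subι F' = subι F := by
  ext q x
  rfl

lemma subMap_refl (F : SubFam L) : subMap F F (fun _ => le_rfl) = 𝟙 _ := by
  ext q x
  rfl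

lemma subMap_trans (F F' F'' : SubFam L) (h : ∀ q, F.S q ≤ F'.S q) (h' : ∀ q, F'.S q ≤ F''.S q) :
    subMap F F' h ≫ subMap F' F'' h' = subMap F F'' (fun q => (h q).trans (h' q)) := by
  ext q x
  rfl

variable (L)

/-- The family of submodules defining the canonical truncation `τ_{≤ m} L`. -/
def tauFam (m : ℤ) : SubFam L where
  S q :=
    { carrier := {x | (m < q → x = 0) ∧ (m ≤ q → (L.d q (q + 1)).hom x = 0)}
      add_mem' := by
        rintro x y ⟨hx1, hx2⟩ ⟨hy1, hy2⟩
        refine ⟨fun h => ?_, fun h => ?_⟩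
        · rw [hx1 h, hy1 h, add_zero]
        · rw [map_add, hx2 h, hy2 h, add_zero]
      zero_mem' := ⟨fun _ => rfl, fun _ => map_zero _⟩
      smul_mem' := by
        rintro r x ⟨hx1, hx2⟩
        refine ⟨fun h => ?_, fun h => ?_⟩
        · rw [hx1 h, smul_zero]
        · rw [map_smul, hx2 h, smul_zero] }
  hS q q' x hx := by
    by_cases h : q + 1 = q'
    · subst h
      refine ⟨fun h1 => hx.2 (by omega), fun _ => ?_⟩
      exact congr($(L.d_comp_d q (q + 1) (q + 1 + 1)) x)
    · rw [L.shape q q' h]
      exact Submodule.zero_mem _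

lemma tauFam_le (m m' : ℤ) (h : m ≤ m') (q : ℤ) : (tauFam L m).S q ≤ (tauFam L m').S q := by
  rintro x ⟨hx1, hx2⟩
  exact ⟨fun h1 => hx1 (by omega), fun h2 => hx2 (by omega)⟩

lemma tauFam_eq_top (m q : ℤ) (h : q < m) : (tauFam L m).S q = ⊤ := by
  rw [eq_top_iff]
  intro x _
  exact ⟨fun h1 => absurd h1 (by omega), fun h2 => absurd h2 (by omega)⟩

lemma tauFam_eq_bot (m q : ℤ) (h : m < q) : (tauFam L m).S q = ⊥ := by
  rw [eq_bot_iff]
  rintro x ⟨hx1, _⟩
  exact hx1 h

/-- The tower of canonical truncations. -/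
noncomputable def tauTower : ℕ ⥤ DRing.Cx R where
  obj m := subCx (tauFam L m)
  map f := subMap _ _ (tauFam_le L _ _ (by have := leOfHom f; omega))
  map_id m := subMap_refl _
  map_comp f g := (subMap_trans _ _ _ _ _).symm

/-- The cocone of the tower of canonical truncations with point `L`. -/
noncomputable def tauCocone : Cocone (tauTower L) where
  pt := L
  ι :=
    { app := fun m => subι (tauFam L m)
      naturality := fun _ _ _ => (subMap_ι _ _ _).trans (Category.comp_id _).symm }

/-- `L` is the colimit of its canonical truncations. -/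
noncomputable def isColimitTauCocone : IsColimit (tauCocone L) := by
  refine HomologicalComplex.isColimitOfEval _ _ (fun q => ?_)
  have h : (tauTower L ⋙ HomologicalComplex.eval (ModuleCat.{u} R) (ComplexShape.up ℤ)
      q).IsEventuallyConstantFrom (q + 1).toNat := by
    intro j f
    have hj : ((q + 1).toNat : ℤ) ≤ j := by have := leOfHom f; omega
    rw [ConcreteCategory.isIso_iff_bijective]
    refine ⟨fun x y hxy => Subtype.ext (congrArg Subtype.val hxy :), fun x => ?_⟩
    have hx : x.1 ∈ (tauFam L ((q + 1).toNat : ℤ)).S q := by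
      rw [tauFam_eq_top L _ q (by omega)]
      trivial
    exact ⟨⟨x.1, hx⟩, rfl⟩
  haveI : IsIso (((HomologicalComplex.eval (ModuleCat.{u} R) (ComplexShape.up ℤ) q).mapCocone
      (tauCocone L)).ι.app (q + 1).toNat) := by
    rw [ConcreteCategory.isIso_iff_bijective]
    refine ⟨fun x y hxy => Subtype.ext hxy, fun x => ?_⟩
    have hx : x ∈ (tauFam L ((q + 1).toNat : ℤ)).S q := by
      rw [tauFam_eq_top L _ q (by omega)]
      trivial
    exact ⟨⟨x, hx⟩, rfl⟩
  exact h.isColimitOfIsIso _

lemma isZero_tauTower_X (m : ℕ) (q : ℤ) (h : (m : ℤ) < q) : IsZero (((tauTower L).obj m).X q) := by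
  have : Subsingleton (((tauTower L).obj m).X q) := by
    change Subsingleton ((tauFam L (m : ℤ)).S q)
    rw [tauFam_eq_bot L _ q h]
    infer_instance
  exact ModuleCat.isZero_of_subsingleton _

end Groth.Agent.Lib.Helper2.KFlatFP
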