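import Groth.Agent.Lib.Helper2.KFlatFP.Algebra
import Groth.Agent.Lib.Helper2.KFlatFP.Tau
import Groth.Agent.Lib.Helper13.KFlat3
import Groth.Agent.Lib.Helper13.HomTensorKProj
import Groth.Agent.Lib.Helper28.KFlatAbs4
import Groth.Prelude.Def_DTen

/-!
# A complex `K` with `K ⊗ M` acyclic for all finitely presented `M` is K-flat
-/

set_option autoImplicit false
universe u
open CategoryTheory CategoryTheory.Limits MonoidalCategory HomologicalComplex TensorProduct

namespace Groth.Agent.Lib.Helper2.KFlatFP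

open Groth.Agent.Lib.Helper28 Groth.Agent.Lib.Helper13.HT

section Algebra

variable {R : Type u} [CommRing R] {X Y Z : Type u} [AddCommGroup X] [AddCommGroup Y]
  [AddCommGroup Z] [Module R X] [Module R Y] [Module R Z] (f : X →ₗ[R] Y) (g : Y →ₗ[R] Z)

/-- "kernel ⊆ range" for `X ⊗ M → Y ⊗ M → Z ⊗ M`. -/
def RExactAt (M : Type u) [AddCommGroup M] [Module R M] : Prop :=
  ∀ y : Y ⊗[R] M, g.rTensor M y = 0 → ∃ x : X ⊗[R] M, f.rTensor M x = y

variable {f g}

lemma midExactAt_of_rExactAt (M : Type u) [AddCommGroup M] [Module R M] (h : RExactAt f g M) :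
    MidExactAt f g M := by
  intro y hy
  have h1 : g.rTensor M (TensorProduct.comm R M Y y) = 0 := by
    rw [LinearMap.rTensor_comm, hy, map_zero]
  obtain ⟨x, hx⟩ := h _ h1
  refine ⟨TensorProduct.comm R X M x, ?_⟩
  rw [LinearMap.lTensor_comm, hx, TensorProduct.comm_comm]

lemma rExactAt_of_midExactAt (M : Type u) [AddCommGroup M] [Module R M] (h : MidExactAt f g M) :
    RExactAt f g M := by
  intro y hy
  have h1 : g.lTensor M (TensorProduct.comm R Y M y) = 0 := by
    rw [LinearMap.lTensor_comm, hy, map_zero]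
  obtain ⟨x, hx⟩ := h _ h1
  refine ⟨TensorProduct.comm R M X x, ?_⟩
  rw [LinearMap.rTensor_comm, hx, TensorProduct.comm_comm]

theorem rExactAt_of_finitePresentation
    (hP : ∀ (P : Type u) [AddCommGroup P] [Module R P], Module.FinitePresentation R P →
      RExactAt f g P)
    (M : Type u) [AddCommGroup M] [Module R M] : RExactAt f g M :=
  rExactAt_of_midExactAt M (midExactAt_of_finitePresentation
    (fun P _ _ hfp => midExactAt_of_rExactAt P (hP P hfp)) M)

end Algebra

variable {R : Type u} [CommRing R] (K : DRing.Cx R)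

/-- Exactness of `K^{n-1} ⊗ M → K^n ⊗ M → K^{n+1} ⊗ M`. -/
def ScExact (M : ModuleCat.{u} R) : Prop :=
  ∀ n : ℤ, ((K.sc' (n - 1) n (n + 1)).map ((curriedTensor (ModuleCat.{u} R)).flip.obj M)).Exact

lemma scExact_iff (M : ModuleCat.{u} R) :
    ScExact K M ↔ ∀ n : ℤ, RExactAt (K.d (n - 1) n).hom (K.d n (n + 1)).hom M := by
  refine forall_congr' (fun n => ?_)
  rw [ShortComplex.moduleCat_exact_iff]
  rfl

lemma scExact_iff_acyclic (M : ModuleCat.{u} R) :
    ScExact K M ↔ ∀ i : ℤ, IsZero ((DRing.tensorCx K M).homology i) := by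
  refine forall_congr' (fun n => ?_)
  rw [← HomologicalComplex.exactAt_iff_isZero_homology,
    HomologicalComplex.exactAt_iff' _ (n - 1) n (n + 1) (by simp) (by simp)]
  rfl

/-- Step 1: exactness for all modules from exactness for finitely presented modules. -/
theorem scExact_of_finitePresentation
    (hK : ∀ (M : Type u) [AddCommGroup M] [Module R M], Module.FinitePresentation R M →
      ScExact K (ModuleCat.of R M)) (M : ModuleCat.{u} R) : ScExact K M := by
  rw [scExact_iff]
  intro n
  refine rExactAt_of_finitePresentation (fun P _ _ hfp => ?_) M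
  exact (scExact_iff K (ModuleCat.of R P)).1 (hK P hfp) n

/-- The class of complexes `L` such that `K ⊗ L` is acyclic. -/
def Acy (L : DRing.Cx R) : Prop :=
  (mapBifunctor K L (curriedTensor (ModuleCat.{u} R)) (ComplexShape.up ℤ)).Acyclic

variable {K}

lemma acy_of_iso {L L' : DRing.Cx R} (e : L ≅ L') (h : Acy K L) : Acy K L' :=
  KFlatAbs.acyclic_of_iso
    ((((curriedTensor (ModuleCat.{u} R)).map₂CochainComplex).obj K).mapIso e) h

lemma acy_of_split (S : ShortComplex (DRing.Cx R))
    (σ : ∀ n, (S.map (HomologicalComplex.eval _ _ n)).Splitting)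
    (h₁ : Acy K S.X₁) (h₃ : Acy K S.X₃) : Acy K S.X₂ :=
  (KFlatAbs.shortExact_tot₂ (curriedTensor (ModuleCat.{u} R)) K S (fun p q =>
    ((σ q).map ((curriedTensor (ModuleCat.{u} R)).obj (K.X p))).shortExact)).acyclic_X₂ h₁ h₃

lemma acy_of_isColimit {D : ℕ ⥤ DRing.Cx R} {c : Cocone D} (hc : IsColimit c)
    (h : ∀ j, Acy K (D.obj j)) : Acy K c.pt := by
  have : ∀ X : ModuleCat.{u} R, PreservesColimitsOfShape ℕ
      ((curriedTensor (ModuleCat.{u} R)).obj X) := fun X =>
    inferInstanceAs (PreservesColimitsOfShape ℕ (tensorLeft X))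
  have : HasExactColimitsOfShape ℕ (ModuleCat.{u} R) :=
    (AB5OfSize_shrink.{0, 0, u, u} (ModuleCat.{u} R)).ofShape ℕ
  exact KFlatAbs.acyclic_of_isColimit
    (KFlatAbs.isColimitMapCoconeTot (curriedTensor (ModuleCat.{u} R)) K hc) h

lemma acy_of_isZero (L : DRing.Cx R) (hL : ∀ n, IsZero (L.X n)) : Acy K L := by
  intro n
  have hz : IsZero L := by
    rw [IsZero.iff_id_eq_zero]
    exact HomologicalComplex.hom_ext _ _ (fun n => (hL n).eq_of_src _ _)
  have : IsZero (mapBifunctor K L (curriedTensor (ModuleCat.{u} R)) (.up ℤ)) :=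
    (((curriedTensor (ModuleCat.{u} R)).map₂CochainComplex).obj K).map_isZero hz
  rw [HomologicalComplex.exactAt_iff_isZero_homology]
  exact (HomologicalComplex.homologyFunctor _ (.up ℤ) n).map_isZero this

lemma acy_single (hsc : ∀ M : ModuleCat.{u} R, ScExact K M) (M : ModuleCat.{u} R) (a : ℤ) :
    Acy K ((HomologicalComplex.single (ModuleCat.{u} R) (ComplexShape.up ℤ) a).obj M) := by
  intro n
  rw [HomologicalComplex.exactAt_iff' _ (n - 1) n (n + 1) (by simp) (by simp)]
  have hp' := hsc M (n - a)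
  refine (ShortComplex.exact_iff_of_iso ?_).1 hp'
  have i1 : IsIso (KFlatAbs.θ (curriedTensor (ModuleCat.{u} R)) K M a (n - a - 1) (n - 1)
    (by omega)) := inferInstance
  have i2 : IsIso (KFlatAbs.θ (curriedTensor (ModuleCat.{u} R)) K M a (n - a) n
    (by omega)) := inferInstance
  have i3 : IsIso (KFlatAbs.θ (curriedTensor (ModuleCat.{u} R)) K M a (n - a + 1) (n + 1)
    (by omega)) := inferInstance
  refine ShortComplex.isoMk (@asIso _ _ _ _ _ i1) (@asIso _ _ _ _ _ i2) (@asIso _ _ _ _ _ i3)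
    ?_ ?_
  · exact KFlatAbs.θ_d (curriedTensor (ModuleCat.{u} R)) K M a (n - a - 1) (n - 1) (n - a) n
      (by omega) (by omega) (by omega)
  · exact KFlatAbs.θ_d (curriedTensor (ModuleCat.{u} R)) K M a (n - a) n (n - a + 1) (n + 1)
      (by omega) (by omega) (by omega)

/-- Bounded above complexes. -/
theorem acy_of_bounded_above (hsc : ∀ M : ModuleCat.{u} R, ScExact K M) (L : DRing.Cx R) (b : ℤ)
    (hb : ∀ n, b < n → IsZero (L.X n)) : Acy K L := by
  have key : ∀ m : ℕ, Acy K (KFlatAbs.trunc L (b + 1 - m)) := by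
    intro m
    induction m with
    | zero =>
      refine acy_of_isZero _ (fun n => ?_)
      by_cases h : b + 1 - ((0 : ℕ) : ℤ) ≤ n
      · have hz : IsZero (L.X n) := hb n (by omega)
        rw [IsZero.iff_id_eq_zero]
        apply KFlatAbs.truncX_ext
        intro h'
        exact hz.eq_of_src _ _
      · exact KFlatAbs.isZero_truncX L _ n h
    | succ m ih =>
      have e : b + 1 - ((m + 1 : ℕ) : ℤ) + 1 = b + 1 - (m : ℤ) := by push_cast; ring
      have ih' : Acy K (KFlatAbs.trunc L (b + 1 - ((m + 1 : ℕ) : ℤ) + 1)) := by rw [e]; exact ih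
      exact acy_of_split (KFlatAbs.truncSC L (b + 1 - ((m + 1 : ℕ) : ℤ)))
        (KFlatAbs.truncSCSplitting L _) ih' (acy_single hsc _ _)
  have h : Acy K (KFlatAbs.truncCocone L (b + 1)).pt :=
    acy_of_isColimit (K := K) (D := KFlatAbs.truncTower L (b + 1))
      (c := KFlatAbs.truncCocone L (b + 1)) (KFlatAbs.isColimitTruncCocone L (b + 1))
      (fun j => key j)
  exact h

/-- All complexes. -/
theorem acy_all (hsc : ∀ M : ModuleCat.{u} R, ScExact K M) (L : DRing.Cx R) : Acy K L := by
  have h : Acy K (tauCocone L).pt :=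
    acy_of_isColimit (K := K) (D := tauTower L) (c := tauCocone L) (isColimitTauCocone L)
      (fun m => acy_of_bounded_above hsc ((tauTower L).obj m) (m : ℤ)
        (fun n hn => isZero_tauTower_X L m n hn))
  exact h

/-- **Main theorem**. -/
theorem kflat_of_finitePresentation
    (hK : ∀ (M : Type u) [AddCommGroup M] [Module R M], Module.FinitePresentation R M →
      (∀ i : ℤ, IsZero ((DRing.tensorCx K (ModuleCat.of R M)).homology i))) : KFlat K := by
  have hsc : ∀ M : ModuleCat.{u} R, ScExact K M :=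
    scExact_of_finitePresentation K (fun M _ _ hfp =>
      (scExact_iff_acyclic K (ModuleCat.of R M)).2 (hK M hfp))
  intro L _ i
  have h := acy_all hsc L i
  rw [HomologicalComplex.exactAt_iff_isZero_homology] at h
  exact h.of_iso ((HomologicalComplex.homologyFunctor _ _ i).mapIso (DTen.braidCx L K))

end Groth.Agent.Lib.Helper2.KFlatFP
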